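import Cfsg.Agent.H996.PQ.Hi

/-!
# The state of a long root element (helper896, X2 of S4612)

`stY_conj_of_nonneg`, `stY_conj_of_neg`: the state of `g u g⁻¹`, `u` in the highest root group, `g` in the cell of `w`.
-/

set_option autoImplicit false
set_option linter.unusedSectionVars false

namespace Cfsg.Agent.H896.PQ

open Cfsg Cfsg.Agent.H967.Sph Cfsg.Agent.H996.PQ
open CoxeterSystem Cfsg.Agent.ChevalleyStructure.CoxeterGeom Cfsg.Agent.Tits.Roots Cfsg.Agent.Tits.Core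
  Cfsg.Agent.Nodes.Reps Cfsg.Agent.Nodes.BNOf Cfsg.Agent.Nodes.Bruhat Cfsg.Agent.Nodes.LeviDec

universe u

variable {I W : Type*} {Y : Type u} [Fintype I] [DecidableEq I] [Group W] [Finite W] [Group Y]
    {M : CoxeterMatrix I} {cs : CoxeterSystem M W} {A : I → I → ℤ} {h : IsCartan M A} {p : ℕ} {T : Subgroup Y}
    {n : I → Y} {X : (I → ℤ) → Subgroup Y} (R : RGD cs h p T n X)
    {j : I} {N m : ℕ} (t : Tab A j N m) {α₀ : I → ℤ}

include R in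
/-- the Borel subgroup normalises `X α₀` -/
theorem B_le_normalizer (hc : Cen cs h X α₀) (hr : IsRoot cs h α₀) :
    RGD.B cs h T X ≤ Subgroup.normalizer (X α₀ : Set Y) := by
  refine sup_le (fun s hs => mem_normalizer_iff_cj.2 (R.tor α₀ hr s hs)) (RGD.Sup_le fun x hx a ha => ?_)
  rw [Subgroup.mem_normalizer_iff]
  have key : ∀ a ∈ X x, ∀ b ∈ X α₀, a * b * a⁻¹ ∈ X α₀ := by
    intro a ha b hb
    rw [hc x hx.1 hx.2 a ha b hb, mul_inv_cancel_right]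
    exact hb
  intro b
  refine ⟨key a ha b, fun hb => ?_⟩
  have h1 := key a⁻¹ (inv_mem ha) _ hb
  have h2 : a⁻¹ * (a * b * a⁻¹) * a⁻¹⁻¹ = b := by group
  rwa [h2] at h1

/-- the state of `g u g⁻¹` is the state of an element of `X (w α₀)`, which is not `1` if `u ≠ 1` -/
theorem exists_stY_conj (hG : GG cs h T X = ⊤) (hc : Cen cs h X α₀) (hr : IsRoot cs h α₀) {u : Y} (hu : u ∈ X α₀)
    {g : Y} {w : W} (hg : Cell R.nsys cs h X w g) :
    ∃ x ∈ X (rep cs h w α₀), (u ≠ 1 → x ≠ 1) ∧ stY R hG t (g * u * g⁻¹) = stY R hG t x := by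
  obtain ⟨b₁, hb₁, k, hk, b₂, hb₂, rfl⟩ := hg
  have h1 : b₂ * u * b₂⁻¹ ∈ X α₀ :=
    (Subgroup.mem_normalizer_iff.1 (B_le_normalizer R hc hr hb₂) u).1 hu
  refine ⟨k * (b₂ * u * b₂⁻¹) * k⁻¹, R.conj_mem hk hr h1, ?_, ?_⟩
  · intro hu1 h2
    apply hu1
    have h3 : u = (k * b₂)⁻¹ * (k * (b₂ * u * b₂⁻¹) * k⁻¹) * (k * b₂) := by group
    rw [h3, h2]
    group
  · have h4 : b₁ * k * b₂ * u * (b₁ * k * b₂)⁻¹ = b₁ * (k * (b₂ * u * b₂⁻¹) * k⁻¹) * b₁⁻¹ := by group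
    rw [h4, stY_mul_right_B R hG t _ (inv_mem hb₁), stY_mul_left R hG t (B_le_PJ hb₁)]

/-- `g u g⁻¹` for `u ∈ X α₀`, `g` in the cell of `w`: in `P_j` (state `o`) if the `j`-th coordinate of `w α₀` is `≥ 0` ... -/
theorem stY_conj_of_nonneg (hG : GG cs h T X = ⊤) (hc : Cen cs h X α₀) (hr : IsRoot cs h α₀) {u : Y} (hu : u ∈ X α₀)
    {g : Y} {w : W} (hg : Cell R.nsys cs h X w g) (h0 : 0 ≤ rep cs h w α₀ j) :
    stY R hG t (g * u * g⁻¹) = t.o := by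
  obtain ⟨x, hx, -, e⟩ := exists_stY_conj R t hG hc hr hu hg
  rw [e, stY_eq_o_iff R hG t]
  have hroot : IsRoot cs h (rep cs h w α₀) := hr.act w
  by_cases hpos : 0 ≤ rep cs h w α₀
  · exact B_le_PJ (RGD.X_le_B hroot hpos hx)
  · have hneg := (hroot.not_nonneg_iff_neg).1 hpos
    have hj : rep cs h w α₀ j = 0 := le_antisymm (neg_nonneg.1 (hneg j)) h0
    refine LJ_le_PJ (X_le_LJ ⟨hroot, fun k hk => ?_⟩ hx)
    have hkj : k = j := by
      by_contra hne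
      exact hk hne
    rw [hkj, hj]

/-- ... and in the cell of the reflection `w' s_i w'⁻¹` if `w α₀ = - w' α_i < 0` -/
theorem stY_conj_of_neg' (hG : GG cs h T X = ⊤) (hc : Cen cs h X α₀) (hr : IsRoot cs h α₀) {u : Y} (hu : u ∈ X α₀)
    (hu1 : u ≠ 1) {g : Y} {w : W} (hg : Cell R.nsys cs h X w g) {w' : W} {i : I}
    (hw : rep cs h w α₀ = - rep cs h w' (sr i)) (h0 : 0 ≤ rep cs h w' (sr i)) :
    stY R hG t (g * u * g⁻¹) = t.sw cs h (w' * cs.simple i * w'⁻¹) := by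
  obtain ⟨x, hx, hx1, e⟩ := exists_stY_conj R t hG hc hr hu hg
  rw [e]
  obtain ⟨k, hk⟩ := exists_rp cs R.nsys w'
  have h1 : k⁻¹ * x * k ∈ X (-sr i) := by
    have := R.conj_mem' hk (hr.act w) hx
    rwa [hw, map_neg, rep_inv_apply] at this
  have h2 : k⁻¹ * x * k ≠ 1 := by
    intro h3
    apply hx1 hu1
    have h4 : x = k * (k⁻¹ * x * k) * k⁻¹ := by group
    rw [h4, h3]
    group
  obtain ⟨a, ha, s, hs, b, hb, e'⟩ := R.rk1 i _ h1 h2
  have hroot : IsRoot cs h (rep cs h w' (sr i)) := (isRoot_sr cs h i).act w'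
  have ha' : k * a * k⁻¹ ∈ RGD.B cs h T X := RGD.X_le_B hroot h0 (R.conj_mem hk (isRoot_sr cs h i) ha)
  have hb' : k * b * k⁻¹ ∈ RGD.B cs h T X := RGD.X_le_B hroot h0 (R.conj_mem hk (isRoot_sr cs h i) hb)
  have hr' : Rp cs R.nsys (w' * cs.simple i * w'⁻¹) (k * s * n i * k⁻¹) :=
    ((hk.mul_mem_right hs).mul (rp_simple cs R.nsys i)).mul hk.inv
  have h5 : x = k * a * k⁻¹ * (k * s * n i * k⁻¹) * (k * b * k⁻¹) := by
    have h6 : x = k * (k⁻¹ * x * k) * k⁻¹ := by group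
    rw [h6, e']
    group
  exact stY_eq R hG t ⟨_, ha', _, hr', _, hb', h5⟩

theorem stY_conj_of_neg (hG : GG cs h T X = ⊤) (hc : Cen cs h X α₀) (hr : IsRoot cs h α₀) {u : Y} (hu : u ∈ X α₀)
    (hu1 : u ≠ 1) {g : Y} {w : W} (hg : Cell R.nsys cs h X w g) {w' : W} {i : I}
    (hw : rep cs h w α₀ = - rep cs h w' (sr i)) (h0 : 0 ≤ rep cs h w' (sr i)) :
    t.cls (stY R hG t (g * u * g⁻¹)) = t.cls (t.sw cs h (w' * cs.simple i * w'⁻¹)) := by
  rw [stY_conj_of_neg' R t hG hc hr hu hu1 hg hw h0]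

end Cfsg.Agent.H896.PQ
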